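import Mathlib
import Groth.Prelude.Def_CAlg
import Groth.Agent.CAlg9.CIT.Regular
import Groth.Agent.CAlg1.SerreNormal
import Groth.Agent.EGA4H10.CMFibre
import Groth.Agent.S10903

/-!
Projective normality of complete intersections.
-/

set_option autoImplicit false
universe u

open IsLocalRing

namespace Groth.Agent.CAlg9.ProjNormal

open Groth.Agent.EGA4Alg4

/-- depth and dimension of a quotient of a regular local ring by `r` elements generating height `≥ r` -/
theorem quotient_cm {B : Type u} [CommRing B] [IsRegularLocalRing B] {r : ℕ} (f : Fin r → B)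
    (hfm : ∀ i, f i ∈ maximalIdeal B) (hh : (r : ℕ∞) ≤ (Ideal.span (Set.range f)).height)
    [IsLocalRing (B ⧸ Ideal.span (Set.range f))] :
    ((LocCoh.depth (B ⧸ Ideal.span (Set.range f)) (B ⧸ Ideal.span (Set.range f)) : ℕ∞) : WithBot ℕ∞) =
        ringKrullDim (B ⧸ Ideal.span (Set.range f)) ∧
      ringKrullDim B ≤ ringKrullDim (B ⧸ Ideal.span (Set.range f)) + r := by
  let I := Ideal.span (Set.range f)
  let xs := List.ofFn f
  have hxs : Ideal.ofList xs = I := RegSeq.ofList_ofFn f
  have hmem : ∀ x ∈ xs, x ∈ maximalIdeal B := fun x hx => by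
    obtain ⟨i, rfl⟩ := List.mem_ofFn.1 hx
    exact hfm i
  have hI : I ≠ ⊤ := RegSeq.ne_top_of_le_maximal (Ideal.span_le.2 (by rintro _ ⟨i, rfl⟩; exact hfm i))
  obtain ⟨e, he⟩ := CIT.exists_dim_eq B
  let q : (B ⧸ (Ideal.ofList xs • (⊤ : Submodule B B))) ≃ₗ[B] (B ⧸ I) :=
    Submodule.quotEquivOfEq _ _ (by rw [Ideal.smul_eq_mul, Ideal.mul_top, hxs])
  have hQ : Module.supportDim B (B ⧸ (Ideal.ofList xs • (⊤ : Submodule B B))) = ringKrullDim (B ⧸ I) := by
    rw [Module.supportDim_eq_of_equiv q, Module.supportDim_quotient_eq_ringKrullDim]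
  have h1 := supportDim_le_quotient_add_length (M := B) hmem
  rw [Module.supportDim_self_eq_ringKrullDim, hQ, List.length_ofFn] at h1
  have h2 := S10903.dim_quotient_add_le I r e he hh hI
  rw [← he] at h2
  have hCM := CIT.isCohenMacaulayModule_self B
  have hreg := isWeaklyRegular_of_supportDim hCM hmem (by
    rw [Module.supportDim_self_eq_ringKrullDim, hQ, List.length_ofFn]; exact le_antisymm h2 h1)
  have h3 := isCohenMacaulayModule_quotient hCM hreg hmem
  have : IsLocalHom (algebraMap B (B ⧸ I)) :=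
    IsLocalHom.of_surjective _ Ideal.Quotient.mk_surjective
  rw [LocCoh.IsCohenMacaulayModule, hQ, depth_eq_of_equiv q,
    depth_eq_of_finite (A := B) (B := B ⧸ I) (B ⧸ I)] at h3
  exact ⟨h3.symm, h1⟩

variable {k : Type u} [Field k] {n r : ℕ}

theorem local_facts (f : Fin r → MvPolynomial (Fin (n + 1)) k)
    (hJ : (r : ℕ∞) ≤ (Ideal.span (Set.range f)).height)
    (Q : Ideal (MvPolynomial (Fin (n + 1)) k ⧸ Ideal.span (Set.range f))) [Q.IsPrime] :
    ((LocCoh.depth (Localization.AtPrime Q) (Localization.AtPrime Q) : ℕ∞) : WithBot ℕ∞) =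
        ringKrullDim (Localization.AtPrime Q) ∧
      ((Q.comap (Ideal.Quotient.mk _)).height : WithBot ℕ∞) ≤ (Q.height : WithBot ℕ∞) + r := by
  let J := Ideal.span (Set.range f)
  let P := Q.comap (Ideal.Quotient.mk J)
  let B := Localization.AtPrime P
  let φ := algebraMap (MvPolynomial (Fin (n + 1)) k) B
  have hJP : J ≤ P := fun x hx => by
    show Ideal.Quotient.mk J x ∈ Q
    rw [Ideal.Quotient.eq_zero_iff_mem.2 hx]; exact zero_mem Q
  have hfm : ∀ i, φ (f i) ∈ maximalIdeal B := fun i =>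
    (IsLocalization.AtPrime.to_map_mem_maximal_iff B P (f i)).2 (hJP (Ideal.subset_span ⟨i, rfl⟩))
  have hmap : Ideal.span (Set.range fun i => φ (f i)) = J.map φ := by
    rw [Ideal.map_span, ← Set.range_comp]; rfl
  have hh : (r : ℕ∞) ≤ (Ideal.span (Set.range fun i => φ (f i))).height := by
    rw [hmap, (J.map φ).height_eq_inf_minimalPrimes]
    refine hJ.trans (le_iInf₂ fun q hq => ?_)
    have := hq.isPrime
    exact (Ideal.height_mono (Ideal.le_comap_of_map_le hq.le)).trans (IsLocalization.height_under P.primeCompl q).le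
  obtain ⟨e0⟩ := EGA4H10.exists_quotLoc_equiv (Ideal.Quotient.mk J) Ideal.Quotient.mk_surjective Q
    (⊥ : Ideal (MvPolynomial (Fin (n + 1)) k ⧸ J))
  let e : (B ⧸ Ideal.span (Set.range fun i => φ (f i))) ≃+* Localization.AtPrime Q :=
    ((Ideal.quotEquivOfEq (by rw [hmap, ← RingHom.ker_eq_comap_bot, Ideal.mk_ker])).trans e0).trans
      ((Ideal.quotEquivOfEq Ideal.map_bot).trans (RingEquiv.quotientBot _))
  have : IsLocalRing (B ⧸ Ideal.span (Set.range fun i => φ (f i))) := e.symm.isLocalRing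
  obtain ⟨h1, h2⟩ := quotient_cm (fun i => φ (f i)) hfm hh
  constructor
  · rw [← CAlg1.depth_eq_of_ringEquiv (A := B ⧸ Ideal.span (Set.range fun i => φ (f i))) e,
      ← ringKrullDim_eq_of_ringEquiv (R := B ⧸ Ideal.span (Set.range fun i => φ (f i))) e]
    exact h1
  · rw [ringKrullDim_eq_of_ringEquiv (R := B ⧸ Ideal.span (Set.range fun i => φ (f i))) e, IsLocalization.AtPrime.ringKrullDim_eq_height Q (Localization.AtPrime Q),
      IsLocalization.AtPrime.ringKrullDim_eq_height P B] at h2
    exact h2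

theorem mem_of_mul_mem {J : Ideal (MvPolynomial (Fin (n + 1)) k)}
    (hJ : letI := MvPolynomial.gradedAlgebra (σ := Fin (n + 1)) (R := k)
      J.IsHomogeneous (MvPolynomial.homogeneousSubmodule (Fin (n + 1)) k))
    {a u : MvPolynomial (Fin (n + 1)) k} (hu : MvPolynomial.constantCoeff u ≠ 0) (h : a * u ∈ J) : a ∈ J := by
  classical
  let m := MvPolynomial.idealOfVars (Fin (n + 1)) k
  have hu' : 1 - MvPolynomial.C (MvPolynomial.constantCoeff u)⁻¹ * u ∈ m ^ 1 := by
    rw [MvPolynomial.mem_pow_idealOfVars_iff']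
    intro x hx
    obtain rfl : x = 0 := (Finsupp.degree_eq_zero_iff x).1 (by omega)
    rw [← MvPolynomial.constantCoeff_eq]
    simp [hu]
  have key : ∀ N : ℕ, a ∈ J ⊔ m ^ N := by
    intro N
    induction N with
    | zero => simp
    | succ N ih =>
      obtain ⟨j, hj, q, hq, hjq⟩ := Submodule.mem_sup.1 ih
      have : a = MvPolynomial.C (MvPolynomial.constantCoeff u)⁻¹ * (a * u) +
          ((1 - MvPolynomial.C (MvPolynomial.constantCoeff u)⁻¹ * u) * j +
            (1 - MvPolynomial.C (MvPolynomial.constantCoeff u)⁻¹ * u) * q) := by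
        rw [← mul_add, hjq]; ring
      rw [this]
      refine add_mem (Submodule.mem_sup_left (J.mul_mem_left _ h))
        (add_mem (Submodule.mem_sup_left (J.mul_mem_left _ hj)) (Submodule.mem_sup_right ?_))
      rw [pow_succ', ← pow_one m]
      exact Ideal.mul_mem_mul hu' (by rwa [pow_one])
  rw [MvPolynomial.mem_iff_homogeneousComponent_mem hJ]
  intro i
  obtain ⟨j, hj, q, hq, hjq⟩ := Submodule.mem_sup.1 (key (i + 1))
  have hq0 : MvPolynomial.homogeneousComponent i q = 0 := by
    ext x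
    rw [MvPolynomial.coeff_homogeneousComponent, MvPolynomial.coeff_zero]
    split_ifs with hx
    · exact (MvPolynomial.mem_pow_idealOfVars_iff' _ _).1 hq x (by omega)
    · rfl
  rw [← hjq, map_add, hq0, add_zero]
  exact (MvPolynomial.mem_iff_homogeneousComponent_mem hJ j).1 hj i

theorem isDomain_and_isIntegrallyClosed (hr : r < n) (f : Fin r → MvPolynomial (Fin (n + 1)) k) (d : Fin r → ℕ)
    (hf : ∀ i, (f i).IsHomogeneous (d i)) (hd : ∀ i, 0 < d i)
    (hJ : (Ideal.span (Set.range f)).height = r)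
    (hnorm : ∀ (Q : Ideal (MvPolynomial (Fin (n + 1)) k ⧸ Ideal.span (Set.range f))) [Q.IsPrime],
      (∃ i, Ideal.Quotient.mk (Ideal.span (Set.range f)) (MvPolynomial.X i) ∉ Q) →
        IsDomain (Localization.AtPrime Q) ∧ IsIntegrallyClosed (Localization.AtPrime Q)) :
    IsDomain (MvPolynomial (Fin (n + 1)) k ⧸ Ideal.span (Set.range f)) ∧
      IsIntegrallyClosed (MvPolynomial (Fin (n + 1)) k ⧸ Ideal.span (Set.range f)) := by
  let J := Ideal.span (Set.range f)
  let A := MvPolynomial (Fin (n + 1)) k ⧸ J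
  let m : Ideal (MvPolynomial (Fin (n + 1)) k) := RingHom.ker MvPolynomial.constantCoeff
  have hm : m.IsMaximal := RingHom.ker_isMaximal_of_surjective _ fun c => ⟨MvPolynomial.C c, MvPolynomial.constantCoeff_C _ c⟩
  have hJm : J ≤ m := Ideal.span_le.2 (by
    rintro _ ⟨i, rfl⟩
    show MvPolynomial.constantCoeff (f i) = 0
    rw [MvPolynomial.constantCoeff_eq]
    exact (hf i).coeff_eq_zero (by simpa using (hd i).ne))
  have hnormal : ∀ (Q : Ideal A) [Q.IsPrime], Q.height ≤ 1 →
      IsDomain (Localization.AtPrime Q) ∧ IsIntegrallyClosed (Localization.AtPrime Q) := by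
    intro Q _ hQ
    refine hnorm Q ?_
    by_contra! hall
    have hle : m ≤ Q.comap (Ideal.Quotient.mk J) := by
      have : m ≤ MvPolynomial.idealOfVars (Fin (n + 1)) k := fun q hq => by
        rw [← pow_one (MvPolynomial.idealOfVars _ _), MvPolynomial.mem_pow_idealOfVars_iff']
        intro x hx
        obtain rfl : x = 0 := (Finsupp.degree_eq_zero_iff x).1 (by omega)
        rw [← MvPolynomial.constantCoeff_eq]; exact hq
      refine this.trans (Ideal.span_le.2 ?_)
      rintro _ ⟨i, rfl⟩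
      exact hall i
    have h1 := (S10903.height_ker_constantCoeff k (n + 1)).trans (Ideal.height_mono hle)
    have h2 := (local_facts f hJ.ge Q).2
    rw [← WithBot.coe_natCast, ← WithBot.coe_add, WithBot.coe_le_coe] at h2
    have h3 : ((n + 1 : ℕ) : ℕ∞) ≤ ((1 + r : ℕ) : ℕ∞) := by
      rw [Nat.cast_add 1 r, Nat.cast_one]
      exact h1.trans (h2.trans (by gcongr))
    have : n + 1 ≤ 1 + r := by exact_mod_cast h3
    omega
  have hall := CAlg1.serre_normal.2 (show LocCoh.HasRk 1 A ∧ LocCoh.HasSk 2 A A from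
    ⟨fun Q hQp hQ => by
      obtain ⟨h1, h2⟩ := hnormal Q (by exact_mod_cast hQ)
      have : IsNoetherianRing (Localization.AtPrime Q) :=
        IsLocalization.isNoetherianRing Q.primeCompl _ inferInstance
      refine CAlg1.regular_of_isIntegrallyClosed_dim_le_one _ ?_
      rw [IsLocalization.AtPrime.ringKrullDim_eq_height Q]
      exact_mod_cast hQ,
    fun Q hQp => by
      rw [CAlg1.supportDim_locSelf, CAlg1.depth_locSelf, (local_facts f hJ.ge Q).1]
      exact (min_le_right _ _).trans (IsLocalization.AtPrime.ringKrullDim_eq_height Q (Localization.AtPrime Q)).ge⟩)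
  have hnt : Nontrivial A := Ideal.Quotient.nontrivial_iff.2 fun h => hm.ne_top (top_le_iff.1 (h ▸ hJm))
  have : (m.map (Ideal.Quotient.mk J)).IsPrime :=
    Ideal.map_isPrime_of_surjective Ideal.Quotient.mk_surjective (by rw [Ideal.mk_ker]; exact hJm)
  have hdom : IsDomain A := by
    let Q := m.map (Ideal.Quotient.mk J)
    have := (hall Q).1
    refine Function.Injective.isDomain (algebraMap A (Localization.AtPrime Q)) ?_
    rw [injective_iff_map_eq_zero]
    intro a ha
    obtain ⟨⟨t, ht⟩, hta⟩ := (IsLocalization.map_eq_zero_iff Q.primeCompl _ a).1 ha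
    obtain ⟨a, rfl⟩ := Ideal.Quotient.mk_surjective a
    obtain ⟨t, rfl⟩ := Ideal.Quotient.mk_surjective t
    rw [← map_mul, Ideal.Quotient.eq_zero_iff_mem, mul_comm] at hta
    refine Ideal.Quotient.eq_zero_iff_mem.2 ?_
    letI := MvPolynomial.gradedAlgebra (σ := Fin (n + 1)) (R := k)
    refine mem_of_mul_mem ?_ (fun h => ht (Ideal.mem_map_of_mem _ h)) hta
    refine Ideal.homogeneous_span _ _ ?_
    rintro _ ⟨i, rfl⟩
    exact ⟨d i, hf i⟩
  refine ⟨hdom, IsIntegrallyClosed.of_localization_maximal fun p _ _ => (hall p).2⟩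

end Groth.Agent.CAlg9.ProjNormal
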